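import Groth.Agent.AbVarLib.MulIsogeny
import Groth.Agent.AbSchLib.SmoothReduced
import Groth.Agent.AbSchLib.RigidityOver
import Groth.Agent.FEtLib.EqLocus
import Mathlib.AlgebraicGeometry.ZariskisMainTheorem
import Mathlib.NumberTheory.Divisors

/-!
# Points of exact order `N` on a group scheme with finite étale `[N]`
-/

set_option autoImplicit false
set_option backward.isDefEq.respectTransparency.types false

universe u

open CategoryTheory CategoryTheory.Limits AlgebraicGeometry MonoidalCategory CartesianMonoidalCategory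
open scoped MonObj GrpObj

namespace Groth.Agent.TorsLocus5

/-- `orderOf x = n` by proper divisors. -/
theorem orderOf_eq_of_properDivisors {G : Type*} [Monoid G] {n : ℕ} (hn : 0 < n) {x : G} (h : x ^ n = 1) :
    orderOf x = n ↔ ∀ d ∈ n.properDivisors, x ^ d ≠ 1 := by
  constructor
  · rintro rfl d hd he
    have hd' := Nat.mem_properDivisors.1 hd
    have h0 : 0 < d := Nat.pos_of_dvd_of_pos hd'.1 hn
    exact absurd (orderOf_le_of_pow_eq_one h0 he) (not_le.2 hd'.2)
  · intro H
    by_contra hne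
    refine H (orderOf x) (Nat.mem_properDivisors.2 ⟨orderOf_dvd_of_pow_eq_one h, ?_⟩) (pow_orderOf_eq_one x)
    exact lt_of_le_of_ne (orderOf_le_of_pow_eq_one hn h) hne

/-- The open and closed subscheme of points of exact order `N` of the `N`-torsion. -/
theorem exists_exactOrder {S : Scheme.{u}} (E : Over S) [GrpObj E] [IsSeparated E.hom] (N : ℕ) (hN : 0 < N)
    [IsFinite ((𝟙 E : E ⟶ E) ^ N).left] [Etale ((𝟙 E : E ⟶ E) ^ N).left] :
    ∃ (Z : Over S) (P : Z ⟶ E), IsFinite Z.hom ∧ Etale Z.hom ∧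
      (P ^ N = 1 ∧ ∀ (Ω : Type u) [Field Ω] [IsAlgClosed Ω] (t : Spec (CommRingCat.of Ω) ⟶ Z.left),
        orderOf ((Over.homMk t rfl : Over.mk (t ≫ Z.hom) ⟶ Z) ≫ P) = N) ∧
      ∀ (T : Over S) (Q : T ⟶ E), Q ^ N = 1 →
        (∀ (Ω : Type u) [Field Ω] [IsAlgClosed Ω] (t : Spec (CommRingCat.of Ω) ⟶ T.left),
          orderOf ((Over.homMk t rfl : Over.mk (t ≫ T.hom) ⟶ T) ≫ Q) = N) →
        ∃! v : T ⟶ Z, v ≫ P = Q := by
  classical
  let φ := ((𝟙 E : E ⟶ E) ^ N).left
  let e : S ⟶ E.left := (η[E]).left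
  -- the kernel of `[N]`
  let K : Over S := Over.mk (pullback.snd φ e : pullback φ e ⟶ S)
  have hφ : φ ≫ E.hom = E.hom := Over.w _
  have he : e ≫ E.hom = 𝟙 S := Over.w η[E]
  have hk : pullback.fst φ e ≫ E.hom = pullback.snd φ e := by
    rw [← hφ, ← Category.assoc, pullback.condition, Category.assoc, he, Category.comp_id]
  let k : K ⟶ E := Over.homMk (pullback.fst φ e) hk
  haveI : IsFinite K.hom := MorphismProperty.pullback_snd (P := @IsFinite) φ e inferInstance
  haveI : Etale K.hom := MorphismProperty.pullback_snd (P := @Etale) φ e inferInstance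
  haveI : IsClosedImmersion (e ≫ E.hom) := by rw [he]; infer_instance
  haveI : IsClosedImmersion e := IsClosedImmersion.of_comp e E.hom
  haveI hkmono : Mono k.left := inferInstanceAs (Mono (pullback.fst φ e))
  have hpow : ∀ {T : Over S} (x : T ⟶ E), (x ^ N).left = x.left ≫ φ := fun {T} x => by
    rw [← Over.comp_left, MonObj.comp_pow, Category.comp_id]
  have hone : ∀ (T : Over S), (1 : T ⟶ E).left = T.hom ≫ e := fun T => by
    rw [Hom.one_def, Over.comp_left]; rfl
  have hlift : ∀ {T : Over S} (x : T ⟶ E), x ^ N = 1 → ∃ y : T ⟶ K, y ≫ k = x := fun {T} x hx => by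
    have h : x.left ≫ φ = T.hom ≫ e := by rw [← hpow, hx, hone]
    exact ⟨Over.homMk (pullback.lift x.left T.hom h) (pullback.lift_snd _ _ _),
      Over.OverMorphism.ext (pullback.lift_fst _ _ _)⟩
  have hkN : k ^ N = 1 := Over.OverMorphism.ext (by
    rw [hpow, hone]; exact pullback.condition)
  haveI : Mono k := (Over.forget S).mono_of_mono_map (f := k) hkmono
  -- the loci where `d` kills
  obtain ⟨y₀, hy₀⟩ := hlift (1 : K ⟶ E) (one_pow N)
  have hd : ∀ d : ℕ, (k ^ d) ^ N = 1 := fun d => by rw [← pow_mul, mul_comm, pow_mul, hkN, one_pow]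
  choose y hy using fun d => hlift (k ^ d) (hd d)
  haveI : FormallyUnramified K.hom := inferInstance
  let L : ℕ → K.left.Opens := fun d =>
    FEtLib.eqLocus K.hom (y d).left y₀.left ((Over.w (y d)).trans (Over.w y₀).symm)
  have hLpt : ∀ (d : ℕ) {T : Over S} (x : T ⟶ K), (x ≫ k) ^ d = 1 ↔ Set.range x.left ⊆ (L d : Set K.left) := by
    intro d T x
    have h1 : (x ≫ k) ^ d = x ≫ y d ≫ k := by rw [hy, MonObj.comp_pow]
    have h2 : (1 : T ⟶ E) = x ≫ y₀ ≫ k := by rw [hy₀, MonObj.comp_one]
    rw [h1, h2]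
    constructor
    · intro h
      rw [← Category.assoc, ← Category.assoc, cancel_mono] at h
      exact FEtLib.range_subset _ _ _ _ x.left (congrArg CommaMorphism.left h)
    · intro h
      rw [← Category.assoc, ← Category.assoc]
      congr 1
      apply Over.OverMorphism.ext
      have hr : Set.range x.left ⊆ Set.range (L d).ι := by rwa [Scheme.Opens.range_ι]
      rw [Over.comp_left, Over.comp_left, ← IsOpenImmersion.lift_fac (L d).ι x.left hr, Category.assoc,
        Category.assoc, FEtLib.ι_comp_eq]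
  let B : Set K.left := ⋃ d ∈ N.properDivisors, (L d : Set K.left)
  have hBc : IsClosed B := Set.Finite.isClosed_biUnion (Finset.finite_toSet _)
    fun d _ => FEtLib.isClosed_eqLocus _ _ _ _
  have hBo : IsOpen B := isOpen_biUnion fun d _ => (L d).isOpen
  let U : K.left.Opens := ⟨Bᶜ, hBc.isOpen_compl⟩
  haveI : IsClosedImmersion U.ι := IsClosedImmersion.of_isPreimmersion _
    (by rw [Scheme.Opens.range_ι]; exact hBo.isClosed_compl)
  let Z : Over S := Over.mk (U.ι ≫ K.hom)
  let z : Z ⟶ K := Over.homMk U.ι rfl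
  refine ⟨Z, z ≫ k, inferInstanceAs (IsFinite (U.ι ≫ K.hom)), inferInstanceAs (Etale (U.ι ≫ K.hom)),
    ⟨by rw [← MonObj.comp_pow, hkN, MonObj.comp_one], ?_⟩, ?_⟩
  · intro Ω _ _ t
    rw [orderOf_eq_of_properDivisors hN (by rw [← MonObj.comp_pow, ← MonObj.comp_pow, hkN, MonObj.comp_one,
      MonObj.comp_one])]
    intro d hd he
    rw [← Category.assoc, hLpt] at he
    let q : Spec (CommRingCat.of Ω) := IsLocalRing.closedPoint Ω
    have h1 : U.ι (t q) ∈ B := Set.mem_biUnion hd (he ⟨q, rfl⟩)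
    exact (t q).2 h1
  · intro T Q hQ hord
    obtain ⟨x, hx⟩ := hlift Q hQ
    have hr : Set.range x.left ⊆ Set.range U.ι := by
      rw [Scheme.Opens.range_ι]
      rintro _ ⟨p, rfl⟩
      show x.left p ∉ B
      intro hp
      obtain ⟨d, hd, hpd⟩ : ∃ d ∈ N.properDivisors, x.left p ∈ L d := by
        simpa [B] using hp
      let Ω := AlgebraicClosure (T.left.residueField p)
      let t : Spec (CommRingCat.of Ω) ⟶ T.left :=
        Spec.map (CommRingCat.ofHom (algebraMap (T.left.residueField p) Ω)) ≫ T.left.fromSpecResidueField p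
      let tt : Over.mk (t ≫ T.hom) ⟶ T := Over.homMk t rfl
      have htp : ∀ q, t q = p := fun q => by
        rw [Scheme.Hom.comp_apply, Scheme.fromSpecResidueField_apply]
      have h1 : ((tt ≫ x) ≫ k) ^ d = 1 := (hLpt d _).2 (by
        rintro _ ⟨q, rfl⟩
        show x.left (t q) ∈ L d
        rw [htp]; exact hpd)
      have h2 : orderOf (tt ≫ Q) = N := hord Ω t
      rw [← hx, ← Category.assoc] at h2
      have h3 : ((tt ≫ x) ≫ k) ^ N = 1 := by rw [← MonObj.comp_pow, hkN, MonObj.comp_one]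
      exact (orderOf_eq_of_properDivisors hN h3).1 h2 d hd h1
    let v : T ⟶ Z := Over.homMk (IsOpenImmersion.lift U.ι x.left hr) (by
      show IsOpenImmersion.lift _ _ _ ≫ U.ι ≫ K.hom = _
      rw [IsOpenImmersion.lift_fac_assoc]; exact Over.w x)
    have hv : v ≫ z = x := Over.OverMorphism.ext (IsOpenImmersion.lift_fac _ _ _)
    refine ⟨v, by show v ≫ z ≫ k = Q; rw [← Category.assoc, hv, hx], fun w hw => ?_⟩
    haveI : Mono z := (Over.forget S).mono_of_mono_map (f := z) (inferInstanceAs (Mono U.ι))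
    rw [← cancel_mono z, ← cancel_mono k, hv, hx, Category.assoc]
    exact hw

end Groth.Agent.TorsLocus5
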